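import Mathlib
import Cfsg.Agent.Lib.SU3Invol.Basic
import Cfsg.Agent.Lib.Char.Orthogonality

/-!
# Counting the involutions of `SU₃(q)` by their position to a given one
-/

set_option autoImplicit false

namespace Cfsg.Agent.SU3Invol

open Matrix

variable {F : Type*} [Field F] [Fintype F] {q : ℕ} (hF : Fintype.card F = q ^ 2)

include hF

theorem card_norm_one : Nat.card {u : Fin 3 → F // h3 q u u = 1} = q ^ 2 * (q ^ 3 + 1) := by
  rw [← Nat.card_congr (Equiv.subtypeEquivRight (p := fun u : Fin 3 → F => Cfsg.hermForm 3 F q u u = 1)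
    (q := fun u : Fin 3 → F => h3 q u u = 1) fun u => by rw [hermForm_eq]), Forms.card_herm_norm_one hF 3]
  simp [show ¬ Even 3 by decide]

theorem card_involutions (hq : Odd q) :
    Nat.card {x : Cfsg.SU 3 F q // x ≠ 1 ∧ x * x = 1} = q ^ 2 * (q ^ 2 - q + 1) := by
  have h := card_involutions_mul hF hq (fun _ => True)
  rw [Nat.card_congr (Equiv.subtypeUnivEquiv fun _ => trivial), card_norm_one hF] at h
  rw [Nat.card_congr (Equiv.subtypeEquivRight (q := fun x : Cfsg.SU 3 F q => x ≠ 1 ∧ x * x = 1) fun x => by simp)] at h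
  refine Nat.eq_of_mul_eq_mul_left (Nat.succ_pos q) ?_
  rw [h]
  have : q ≤ q ^ 2 := Nat.le_self_pow two_ne_zero q
  zify [this]; ring

theorem card_centralizer (hq : Odd q) (t : Cfsg.SU 3 F q) (ht : t ≠ 1) (ht2 : t * t = 1) :
    Nat.card (Subgroup.centralizer ({t} : Set (Cfsg.SU 3 F q))) = q * (q + 1) * (q ^ 2 - 1) := by
  classical
  obtain ⟨u, rfl⟩ := exists_refl_of_involution hF hq t ht ht2
  have h := Char.card_centralizer_mul_card_conj (refl hF u)
  have hc : Nat.card {x : Cfsg.SU 3 F q // IsConj (refl hF u) x} = q ^ 2 * (q ^ 2 - q + 1) := by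
    rw [← card_involutions hF hq]
    refine Nat.card_congr (Equiv.subtypeEquivRight fun x => ⟨fun hx => ?_, fun hx => ?_⟩)
    · obtain ⟨g, rfl⟩ := isConj_iff.1 hx
      rw [conj_refl]
      exact ⟨refl_ne_one hF hq _, refl_mul_self hF _⟩
    · obtain ⟨w, rfl⟩ := exists_refl_of_involution hF hq x hx.1 hx.2
      exact isConj_iff.2 (isConj_refl hF u w)
  rw [hc] at h
  have hq1 : 1 < q := Forms.one_lt_q hF
  have h1 := Forms.card_SU_mul hF (n := 3) (by norm_num)
  rw [← h, Forms.card_GU hF] at h1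
  simp only [Finset.prod_range_succ, Finset.prod_range_zero, one_mul, if_pos (show Even 0 by decide),
    if_neg (show ¬ Even 1 by decide), if_pos (show Even 2 by decide), zero_add, pow_one] at h1
  have hle : q ≤ q ^ 2 := Nat.le_self_pow two_ne_zero q
  have hle1 : 1 ≤ q ^ 2 := by omega
  refine Nat.eq_of_mul_eq_mul_right (m := (q + 1) * (q ^ 2 * (q ^ 2 - q + 1))) (by positivity) ?_
  rw [mul_left_comm, h1]
  zify [hle, hle1]; ring

/-- Common orthogonal point of two points in general position. -/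
theorem exists_perp_both {u w : Fin 3 → F} (hu : h3 q u u = 1) (hw : h3 q w w = 1)
    (hne : h3 q w u ^ (q + 1) ≠ 1) :
    ∃ v : {v : Fin 3 → F // h3 q v v = 1}, h3 q v.1 u = 0 ∧ h3 q v.1 w = 0 := by
  have hD : h3 q (cross q u w) (cross q u w) = 1 - h3 q w u ^ (q + 1) := by
    rw [h3_cross_self hF, hu, hw, one_mul, pow_succ, h3_swap hF]
  have h0 : h3 q (cross q u w) (cross q u w) ≠ 0 := by rw [hD]; exact sub_ne_zero.2 hne.symm
  obtain ⟨x, hx0, hx⟩ := Forms.exists_norm_eq hF (inv_ne_zero h0) (by rw [inv_pow, cross_norm_fixed hF])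
  refine ⟨⟨x • cross q u w, by rw [h3_smul_self, hx, inv_mul_cancel₀ h0]⟩, ?_, ?_⟩
  · rw [h3_smul_left, ← h3_swap hF, h3_cross_left hF, zero_q hF, mul_zero]
  · rw [h3_smul_left, ← h3_swap hF, h3_cross_right hF, zero_q hF, mul_zero]

omit hF in
/-- Expansion along `u`, `w` and their cross product. -/
theorem expand (hF : Fintype.card F = q ^ 2) (u w v : Fin 3 → F) (i : Fin 3) :
    (h3 q u u * h3 q w w - h3 q u w * h3 q w u) * v i =
      (h3 q w w * h3 q v u - h3 q w u * h3 q v w) * u i + (h3 q u u * h3 q v w - h3 q u w * h3 q v u) * w i +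
        h3 q v (cross q u w) * cross q u w i := by
  fin_cases i <;> simp [h3, cross, sub_q hF, mul_pow, q_q hF] <;> ring

/-- The third involution of a commuting pair. -/
theorem card_third (hq : Odd q) (t x : Cfsg.SU 3 F q) (ht : t ≠ 1) (ht2 : t * t = 1) (hx : x ≠ 1)
    (hx2 : x * x = 1) (hne : x ≠ t) (hc : Commute t x) :
    Nat.card {y : Cfsg.SU 3 F q // y ≠ 1 ∧ y * y = 1 ∧ y ≠ t ∧ y ≠ x ∧ Commute t y ∧ Commute x y} = 1 := by
  obtain ⟨u, rfl⟩ := exists_refl_of_involution hF hq t ht ht2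
  obtain ⟨w, rfl⟩ := exists_refl_of_involution hF hq x hx hx2
  have hwu : h3 q w.1 u.1 = 0 := ((commute_refl_iff hF hq u w).1 hc).resolve_left (Ne.symm hne)
  have huw : h3 q u.1 w.1 = 0 := by rw [← h3_swap hF, hwu, zero_q hF]
  have hz : h3 q (cross q u.1 w.1) (cross q u.1 w.1) = 1 := by
    rw [h3_cross_self hF, u.2, w.2, huw]; ring
  let z : {v : Fin 3 → F // h3 q v v = 1} := ⟨cross q u.1 w.1, hz⟩
  have huz := h3_cross_left hF u.1 w.1
  have hwz := h3_cross_right hF u.1 w.1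
  have hzu : h3 q z.1 u.1 = 0 := by rw [← h3_swap hF, huz, zero_q hF]
  have hzw : h3 q z.1 w.1 = 0 := by rw [← h3_swap hF, hwz, zero_q hF]
  have hne' : ∀ a b : {v : Fin 3 → F // h3 q v v = 1}, h3 q b.1 a.1 = 0 → refl hF b ≠ refl hF a := by
    intro a b hab h
    obtain ⟨c, hc, hca⟩ := (refl_eq_iff hF hq a b).1 h.symm
    rw [hca, h3_smul_left, a.2, mul_one] at hab
    rw [hab, zero_pow (Nat.succ_ne_zero q)] at hc
    exact zero_ne_one hc
  let e : {y : Cfsg.SU 3 F q // y ≠ 1 ∧ y * y = 1 ∧ y ≠ refl hF u ∧ y ≠ refl hF w ∧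
      Commute (refl hF u) y ∧ Commute (refl hF w) y} :=
    ⟨refl hF z, refl_ne_one hF hq z, refl_mul_self hF z, hne' u z hzu, hne' w z hzw,
      (commute_refl_iff hF hq u z).2 (Or.inr hzu), (commute_refl_iff hF hq w z).2 (Or.inr hzw)⟩
  haveI : Unique {y : Cfsg.SU 3 F q // y ≠ 1 ∧ y * y = 1 ∧ y ≠ refl hF u ∧ y ≠ refl hF w ∧
      Commute (refl hF u) y ∧ Commute (refl hF w) y} := ⟨⟨e⟩, fun ⟨y, hy1, hy2, hyu, hyw, hcu, hcw⟩ => by
    obtain ⟨v, rfl⟩ := exists_refl_of_involution hF hq y hy1 hy2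
    have hvu := ((commute_refl_iff hF hq u v).1 hcu).resolve_left (Ne.symm hyu)
    have hvw := ((commute_refl_iff hF hq w v).1 hcw).resolve_left (Ne.symm hyw)
    refine Subtype.ext ((refl_eq_iff hF hq z v).2 ⟨h3 q v.1 z.1, ?_, ?_⟩).symm
    · have hv : v.1 = h3 q v.1 z.1 • z.1 := funext fun i => by
        have := expand hF u.1 w.1 v.1 i
        rw [u.2, w.2, huw, hvu, hvw] at this
        simpa [z] using this
      have := v.2
      rw [hv, h3_smul_self, z.2, mul_one] at this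
      exact this
    · funext i
      have := expand hF u.1 w.1 v.1 i
      rw [u.2, w.2, huw, hvu, hvw] at this
      simpa [z] using this⟩
  exact Nat.card_unique

omit hF in
/-- The first coordinate of a point in a frame of `u`. -/
theorem h3_frame (hF : Fintype.card F = q ^ 2) (g : Cfsg.SU 3 F q) (x : Fin 3 → F) :
    h3 q (mat g *ᵥ x) (mat g *ᵥ ![1, 0, 0]) = x 0 := by
  rw [h3_mat]; simp [h3, zero_q hF]

/-- Common neighbours in coordinates. -/
theorem exists_common_iff (u w : {v : Fin 3 → F // h3 q v v = 1}) (h0 : h3 q w.1 u.1 ≠ 0) :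
    (∃ v : {v : Fin 3 → F // h3 q v v = 1}, h3 q v.1 u.1 = 0 ∧ h3 q v.1 w.1 = 0) ↔
      h3 q w.1 u.1 ^ (q + 1) ≠ 1 ∨ ∃ c : F, w.1 = c • u.1 := by
  constructor
  · rintro ⟨v, hvu, hvw⟩
    by_contra h
    push Not at h
    obtain ⟨h1, h2⟩ := h
    obtain ⟨g, hg⟩ := exists_frame hF u.1 u.2
    obtain ⟨x, hx⟩ : ∃ x, mat g *ᵥ x = w.1 := ⟨mat g⁻¹ *ᵥ w.1, by rw [← mat_mul_mulVec, mul_inv_cancel, mat_one_mulVec]⟩
    obtain ⟨y, hy⟩ : ∃ y, mat g *ᵥ y = v.1 := ⟨mat g⁻¹ *ᵥ v.1, by rw [← mat_mul_mulVec, mul_inv_cancel, mat_one_mulVec]⟩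
    have hw := w.2
    have hv := v.2
    rw [← hx, h3_mat] at hw
    rw [← hy, h3_mat] at hv
    rw [← hy, ← hg, h3_frame hF] at hvu
    rw [← hy, ← hx, h3_mat] at hvw
    rw [← hx, ← hg, h3_frame hF] at h1 h0
    simp only [h3, hvu, zero_q hF, mul_zero, zero_mul, zero_add] at hv hvw
    have hiso : x 1 * x 1 ^ q + x 2 * x 2 ^ q = 0 := by
      simp only [h3] at hw; linear_combination hw - h1
    have hx12 : x 1 ≠ 0 ∨ x 2 ≠ 0 := by
      by_contra h
      push Not at h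
      refine h2 (x 0) ?_
      rw [← hx, ← hg, ← Matrix.mulVec_smul]
      congr 1
      ext i; fin_cases i <;> simp [h.1, h.2]
    have hvw' : y 1 ^ q * x 1 + y 2 ^ q * x 2 = 0 := by
      have := congrArg (· ^ q) hvw
      simpa [add_q hF, mul_pow, q_q hF, zero_q hF] using this
    rcases hx12 with h | h
    · have : (x 1 * x 1 ^ q) * (y 1 * y 1 ^ q + y 2 * y 2 ^ q) = 0 := by
        linear_combination (y 1 ^ q * x 1) * hvw + (y 2 * y 2 ^ q) * hiso - (y 2 * x 2 ^ q) * hvw'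
      rw [hv, mul_one] at this
      exact h (by rcases mul_eq_zero.1 this with h | h; exacts [h, eq_zero_of_pow_eq_zero h])
    · have : (x 2 * x 2 ^ q) * (y 1 * y 1 ^ q + y 2 * y 2 ^ q) = 0 := by
        linear_combination (y 2 ^ q * x 2) * hvw + (y 1 * y 1 ^ q) * hiso - (y 1 * x 1 ^ q) * hvw'
      rw [hv, mul_one] at this
      exact h (by rcases mul_eq_zero.1 this with h | h; exacts [h, eq_zero_of_pow_eq_zero h])
  · rintro (h | ⟨c, hc⟩)
    · exact exists_perp_both hF u.2 w.2 h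
    · obtain ⟨g, hg⟩ := exists_frame hF u.1 u.2
      refine ⟨⟨mat g *ᵥ ![0, 1, 0], by rw [h3_mat]; simp [h3, zero_q hF]⟩, ?_, ?_⟩
      · rw [← hg, h3_frame hF]; rfl
      · rw [hc, ← hg, ← Matrix.mulVec_smul, h3_mat]; simp [h3, zero_q hF]

omit hF in
/-- The frame carries the coordinate conditions over. -/
theorem card_frame (hF : Fintype.card F = q ^ 2) (g : Cfsg.SU 3 F q) (P : (Fin 3 → F) → Prop) :
    Nat.card {u : {u : Fin 3 → F // h3 q u u = 1} // P u.1} =
      Nat.card {x : Fin 3 → F // h3 q x x = 1 ∧ P (mat g *ᵥ x)} := by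
  have e1 : ∀ x, mat g *ᵥ (mat g⁻¹ *ᵥ x) = x := fun x => by rw [← mat_mul_mulVec, mul_inv_cancel, mat_one_mulVec]
  have e2 : ∀ x, mat g⁻¹ *ᵥ (mat g *ᵥ x) = x := fun x => by rw [← mat_mul_mulVec, inv_mul_cancel, mat_one_mulVec]
  exact Nat.card_congr
    { toFun := fun u => ⟨mat g⁻¹ *ᵥ u.1.1, by rw [h3_mat]; exact u.1.2, by rw [e1]; exact u.2⟩
      invFun := fun x => ⟨⟨mat g *ᵥ x.1, by rw [h3_mat]; exact x.2.1⟩, x.2.2⟩
      left_inv := fun u => Subtype.ext (Subtype.ext (e1 _))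
      right_inv := fun x => Subtype.ext (e2 _) }

/-- Number of involutions commuting with a given one. -/
theorem card_neighbours (hq : Odd q) (t : Cfsg.SU 3 F q) (ht : t ≠ 1) (ht2 : t * t = 1) :
    Nat.card {x : Cfsg.SU 3 F q // x ≠ 1 ∧ x * x = 1 ∧ x ≠ t ∧ Commute t x} = q * (q - 1) := by
  obtain ⟨u, rfl⟩ := exists_refl_of_involution hF hq t ht ht2
  have h := card_involutions_mul hF hq (fun x => x ≠ refl hF u ∧ Commute (refl hF u) x)
  have hiff : ∀ w : {v : Fin 3 → F // h3 q v v = 1},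
      (refl hF w ≠ refl hF u ∧ Commute (refl hF u) (refl hF w)) ↔ h3 q w.1 u.1 = 0 := by
    intro w
    refine ⟨fun ⟨h1, h2⟩ => ((commute_refl_iff hF hq u w).1 h2).resolve_left (Ne.symm h1),
      fun h0 => ⟨fun h => ?_, (commute_refl_iff hF hq u w).2 (Or.inr h0)⟩⟩
    obtain ⟨c, hc, hcw⟩ := (refl_eq_iff hF hq u w).1 h.symm
    rw [hcw, h3_smul_left, u.2, mul_one] at h0
    rw [h0, zero_pow (Nat.succ_ne_zero q)] at hc
    exact zero_ne_one hc
  obtain ⟨g, hg⟩ := exists_frame hF u.1 u.2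
  rw [Nat.card_congr (Equiv.subtypeEquivRight hiff), card_frame hF g (fun w => h3 q w u.1 = 0)] at h
  have hcnt : Nat.card {x : Fin 3 → F // h3 q x x = 1 ∧ h3 q (mat g *ᵥ x) u.1 = 0} = q * (q ^ 2 - 1) := by
    rw [← hg]
    simp only [h3_frame hF]
    have h2 := Forms.card_herm_norm_one hF 2
    rw [if_pos (by decide)] at h2
    simp only [show 2 - 1 = 1 from rfl, pow_one] at h2
    rw [← h2]
    exact Nat.card_congr
      { toFun := fun x => ⟨![x.1 1, x.1 2], by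
          have := x.2.1; simp [h3, x.2.2, zero_q hF] at this; simpa [Cfsg.hermForm, Fin.sum_univ_two] using this⟩
        invFun := fun y => ⟨![0, y.1 0, y.1 1], by
          have := y.2; simp [Cfsg.hermForm, Fin.sum_univ_two] at this; simpa [h3, zero_q hF] using this⟩
        left_inv := fun x => Subtype.ext (funext fun i => by fin_cases i <;> simp [x.2.2])
        right_inv := fun y => Subtype.ext (funext fun i => by fin_cases i <;> simp) }
  rw [hcnt] at h
  refine Nat.eq_of_mul_eq_mul_left (Nat.succ_pos q) (h.trans ?_)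
  have hq1 : 1 ≤ q := (Forms.one_lt_q hF).le
  have : 1 ≤ q ^ 2 := Nat.one_le_pow _ _ hq1
  zify [hq1, this]; ring

/-- Number of involutions at distance three. -/
theorem card_far (hq : Odd q) (t : Cfsg.SU 3 F q) (ht : t ≠ 1) (ht2 : t * t = 1) :
    Nat.card {x : Cfsg.SU 3 F q // x ≠ 1 ∧ x * x = 1 ∧ ¬ Commute t x ∧
        ∀ y : Cfsg.SU 3 F q, y ≠ 1 → y * y = 1 → ¬ (Commute t y ∧ Commute y x)} = (q + 1) * (q ^ 2 - 1) := by
  obtain ⟨u, rfl⟩ := exists_refl_of_involution hF hq t ht ht2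
  have h := card_involutions_mul hF hq (fun x => ¬ Commute (refl hF u) x ∧
    ∀ y : Cfsg.SU 3 F q, y ≠ 1 → y * y = 1 → ¬ (Commute (refl hF u) y ∧ Commute y x))
  have hiff : ∀ w : {v : Fin 3 → F // h3 q v v = 1},
      (¬ Commute (refl hF u) (refl hF w) ∧ ∀ y : Cfsg.SU 3 F q, y ≠ 1 → y * y = 1 →
        ¬ (Commute (refl hF u) y ∧ Commute y (refl hF w))) ↔
      (h3 q w.1 u.1 ^ (q + 1) = 1 ∧ ¬ ∃ c : F, w.1 = c • u.1) := by
    intro w
    have hsame : (∃ c : F, w.1 = c • u.1) ↔ refl hF u = refl hF w := by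
      rw [refl_eq_iff hF hq]
      refine ⟨fun ⟨c, hc⟩ => ⟨c, ?_, hc⟩, fun ⟨c, _, hc⟩ => ⟨c, hc⟩⟩
      have := w.2
      rw [hc, h3_smul_self, u.2, mul_one] at this
      exact this
    constructor
    · rintro ⟨h1, h2⟩
      rw [commute_refl_iff hF hq, not_or] at h1
      rw [hsame]
      refine ⟨?_, h1.1⟩
      by_contra hne
      obtain ⟨v, hvu, hvw⟩ := exists_perp_both hF u.2 w.2 hne
      exact h2 (refl hF v) (refl_ne_one hF hq v) (refl_mul_self hF v)
        ⟨(commute_refl_iff hF hq u v).2 (Or.inr hvu), ((commute_refl_iff hF hq w v).2 (Or.inr hvw)).symm⟩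
    · rintro ⟨h1, h2⟩
      have h0 : h3 q w.1 u.1 ≠ 0 := fun h0 => by
        rw [h0, zero_pow (Nat.succ_ne_zero q)] at h1; exact zero_ne_one h1
      have hnc : ¬ Commute (refl hF u) (refl hF w) := by
        rw [commute_refl_iff hF hq, not_or, ← hsame]; exact ⟨h2, h0⟩
      refine ⟨hnc, fun y hy1 hy2 ⟨hyu, hyw⟩ => ?_⟩
      obtain ⟨v, rfl⟩ := exists_refl_of_involution hF hq y hy1 hy2
      rcases (commute_refl_iff hF hq u v).1 hyu with hv | hv
      · rw [← hv] at hyw; exact hnc hyw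
      rcases (commute_refl_iff hF hq w v).1 hyw.symm with hv' | hv'
      · rw [← hv'] at hyu; exact hnc hyu
      rcases (exists_common_iff hF u w h0).1 ⟨v, hv, hv'⟩ with h | h
      exacts [h h1, h2 h]
  obtain ⟨g, hg⟩ := exists_frame hF u.1 u.2
  rw [Nat.card_congr (Equiv.subtypeEquivRight hiff),
    card_frame hF g (fun w => h3 q w u.1 ^ (q + 1) = 1 ∧ ¬ ∃ c : F, w = c • u.1)] at h
  have hcoord : ∀ x : Fin 3 → F, (h3 q x x = 1 ∧ h3 q (mat g *ᵥ x) u.1 ^ (q + 1) = 1 ∧ ¬ ∃ c : F, mat g *ᵥ x = c • u.1)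
      ↔ (x 0 ^ (q + 1) = 1 ∧ Cfsg.hermForm 2 F q ![x 1, x 2] ![x 1, x 2] = 0 ∧ ![x 1, x 2] ≠ 0) := by
    intro x
    rw [← hg, h3_frame hF]
    have hinj : ∀ y, mat g *ᵥ x = mat g *ᵥ y ↔ x = y := fun y => ⟨fun h => by
      have := congrArg (fun z => mat g⁻¹ *ᵥ z) h
      simp only [← mat_mul_mulVec, inv_mul_cancel, mat_one_mulVec] at this
      exact this, fun h => by rw [h]⟩
    simp only [← Matrix.mulVec_smul, hinj]
    have hw : h3 q x x = x 0 ^ (q + 1) + Cfsg.hermForm 2 F q ![x 1, x 2] ![x 1, x 2] := by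
      simp [h3, Cfsg.hermForm, Fin.sum_univ_two]; ring
    rw [hw]
    constructor
    · rintro ⟨h1, h2, h3'⟩
      refine ⟨h2, by linear_combination h1 - h2, fun h => h3' ⟨x 0, ?_⟩⟩
      have e1 : x 1 = 0 := congrFun h 0
      have e2 : x 2 = 0 := congrFun h 1
      ext i; fin_cases i <;> simp [e1, e2]
    · rintro ⟨h1, h2, h3'⟩
      refine ⟨by rw [h1, h2, add_zero], h1, fun ⟨c, hc⟩ => h3' ?_⟩
      rw [hc]; ext i; fin_cases i <;> simp
  rw [Nat.card_congr (Equiv.subtypeEquivRight hcoord)] at h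
  have hcnt : Nat.card {x : Fin 3 → F // x 0 ^ (q + 1) = 1 ∧ Cfsg.hermForm 2 F q ![x 1, x 2] ![x 1, x 2] = 0 ∧
      ![x 1, x 2] ≠ 0} = (q + 1) * ((q ^ 2 - 1) * (q + 1)) := by
    classical
    have h2 := Forms.card_herm_isotropic hF 2
    rw [if_pos (by decide)] at h2
    simp only [show 2 - 1 = 1 from rfl, pow_one] at h2
    have h3' : Nat.card {v : Fin 2 → F // Cfsg.hermForm 2 F q v v = 0 ∧ v ≠ 0} = (q ^ 2 - 1) * (q + 1) := by
      rw [Nat.card_eq_fintype_card, Fintype.card_subtype] at h2 ⊢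
      have : (Finset.univ.filter fun v : Fin 2 → F => Cfsg.hermForm 2 F q v v = 0 ∧ v ≠ 0) =
          (Finset.univ.filter fun v : Fin 2 → F => Cfsg.hermForm 2 F q v v = 0).erase 0 := by
        ext v; simp [and_comm]
      rw [this, Finset.card_erase_of_mem (by simp [Cfsg.hermForm]), h2, Nat.add_sub_cancel]
    refine Eq.trans (b := Nat.card ({c : F // c ^ (q + 1) = 1} ×
      {v : Fin 2 → F // Cfsg.hermForm 2 F q v v = 0 ∧ v ≠ 0})) ?_
      (by rw [Nat.card_prod, Forms.card_norm_fibre hF (one_ne_zero (α := F)) (one_pow q), h3'])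
    exact Nat.card_congr
      { toFun := fun x => (⟨x.1 0, x.2.1⟩, ⟨![x.1 1, x.1 2], x.2.2⟩)
        invFun := fun p => ⟨![p.1.1, p.2.1 0, p.2.1 1], p.1.2, by
          have e : (![p.2.1 0, p.2.1 1] : Fin 2 → F) = p.2.1 := by ext i; fin_cases i <;> simp
          simpa [e] using p.2.2⟩
        left_inv := fun x => Subtype.ext (funext fun i => by fin_cases i <;> simp)
        right_inv := fun p => Prod.ext (Subtype.ext rfl) (Subtype.ext (funext fun i => by fin_cases i <;> simp)) }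
  rw [hcnt] at h
  refine Nat.eq_of_mul_eq_mul_left (Nat.succ_pos q) (h.trans ?_)
  rw [Nat.succ_eq_add_one]
  ring

/-- The remaining count. -/
theorem card_two (hq : Odd q) (t : Cfsg.SU 3 F q) (ht : t ≠ 1) (ht2 : t * t = 1) :
    Nat.card {x : Cfsg.SU 3 F q // x ≠ 1 ∧ x * x = 1 ∧ ¬ Commute t x ∧
        ∃ y : Cfsg.SU 3 F q, y ≠ 1 ∧ y * y = 1 ∧ Commute t y ∧ Commute y x} = q * (q - 2) * (q ^ 2 - 1) := by
  classical
  haveI : Fintype (Cfsg.SU 3 F q) := Fintype.ofFinite _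
  have h1 := card_neighbours hF hq t ht ht2
  have h3' := card_far hF hq t ht ht2
  have h4 := card_involutions hF hq
  simp only [Nat.card_eq_fintype_card, Fintype.card_subtype] at h1 h3' h4 ⊢
  set I := Finset.univ.filter fun x : Cfsg.SU 3 F q => x ≠ 1 ∧ x * x = 1 with hI
  have hsame : (Finset.univ.filter fun x : Cfsg.SU 3 F q => x ≠ 1 ∧ x * x = 1 ∧ x = t) = {t} := by
    ext x; simp only [Finset.mem_filter, Finset.mem_univ, true_and, Finset.mem_singleton]
    exact ⟨fun h => h.2.2, fun h => ⟨h ▸ ht, h ▸ ht2, h⟩⟩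
  have key : I.card = (({t} : Finset (Cfsg.SU 3 F q)).card +
      (Finset.univ.filter fun x : Cfsg.SU 3 F q => x ≠ 1 ∧ x * x = 1 ∧ x ≠ t ∧ Commute t x).card) +
      ((Finset.univ.filter fun x : Cfsg.SU 3 F q => x ≠ 1 ∧ x * x = 1 ∧ ¬ Commute t x ∧
        ∃ y : Cfsg.SU 3 F q, y ≠ 1 ∧ y * y = 1 ∧ Commute t y ∧ Commute y x).card +
      (Finset.univ.filter fun x : Cfsg.SU 3 F q => x ≠ 1 ∧ x * x = 1 ∧ ¬ Commute t x ∧
        ∀ y : Cfsg.SU 3 F q, y ≠ 1 → y * y = 1 → ¬ (Commute t y ∧ Commute y x)).card) := by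
    rw [← hsame]
    simp only [Finset.card_filter, hI, ← Finset.sum_add_distrib]
    refine Finset.sum_congr rfl fun x _ => ?_
    by_cases a : x ≠ 1 ∧ x * x = 1
    · obtain ⟨a1, a2⟩ := a
      by_cases b : x = t
      · subst b; simp [a1, a2, Commute.refl]
      by_cases c : Commute t x
      · simp [a1, a2, b, c]
      by_cases d : ∃ y : Cfsg.SU 3 F q, y ≠ 1 ∧ y * y = 1 ∧ Commute t y ∧ Commute y x
      · have d' : ¬ ∀ y : Cfsg.SU 3 F q, y ≠ 1 → y * y = 1 → ¬ (Commute t y ∧ Commute y x) := fun h =>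
          let ⟨y, e1, e2, e3, e4⟩ := d; h y e1 e2 ⟨e3, e4⟩
        simp only [a1, a2, b, c, d, d', ne_eq, not_false_eq_true, and_true, and_false, if_true, if_false]
        <;> norm_num
      · have d' : ∀ y : Cfsg.SU 3 F q, y ≠ 1 → y * y = 1 → ¬ (Commute t y ∧ Commute y x) :=
          fun y e1 e2 e3 => d ⟨y, e1, e2, e3.1, e3.2⟩
        simp only [a1, a2, b, c, d, eq_true d', ne_eq, not_false_eq_true, and_true, and_false, if_true, if_false]
        <;> norm_num
    · have aa : ∀ R : Prop, ¬ (x ≠ 1 ∧ x * x = 1 ∧ R) := fun R h => a ⟨h.1, h.2.1⟩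
      simp only [if_neg (aa _), if_neg a]
      <;> norm_num
  rw [h4, Finset.card_singleton, h1, h3'] at key
  have hq1 : 1 < q := Forms.one_lt_q hF
  have hle : q ≤ q ^ 2 := Nat.le_self_pow two_ne_zero q
  have hle1 : 1 ≤ q ^ 2 := by omega
  have key' := congrArg (Nat.cast (R := ℤ)) key
  zify [hle, hle1, show 2 ≤ q by omega, show 1 ≤ q by omega]
  push_cast [Nat.cast_sub hle, Nat.cast_sub hle1, Nat.cast_sub (show 1 ≤ q by omega)] at key'
  linear_combination -key'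

/-- The commuting graph has diameter at most three. -/
theorem exists_path (hq : Odd q) (t x : Cfsg.SU 3 F q) (ht : t ≠ 1) (ht2 : t * t = 1) (hx : x ≠ 1)
    (hx2 : x * x = 1) :
    ∃ y z : Cfsg.SU 3 F q, y ≠ 1 ∧ y * y = 1 ∧ z ≠ 1 ∧ z * z = 1 ∧
      Commute t y ∧ Commute y z ∧ Commute z x := by
  obtain ⟨u, rfl⟩ := exists_refl_of_involution hF hq t ht ht2
  obtain ⟨w, rfl⟩ := exists_refl_of_involution hF hq x hx hx2
  obtain ⟨g, hg⟩ := exists_frame hF u.1 u.2
  set a := mat g⁻¹ *ᵥ w.1 with ha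
  have hga : mat g *ᵥ a = w.1 := by rw [ha, ← mat_mul_mulVec, mul_inv_cancel, mat_one_mulVec]
  have haa : a 0 * a 0 ^ q + a 1 * a 1 ^ q + a 2 * a 2 ^ q = 1 := by
    have := w.2; rwa [← hga, h3_mat] at this
  obtain ⟨v, hv, hvu, hvw⟩ : ∃ v : Fin 3 → F, ∃ hv : h3 q v v = 1,
      Commute (refl hF u) (refl hF ⟨v, hv⟩) ∧ h3 q w.1 v ^ (q + 1) ≠ 1 := by
    obtain ⟨i, hi⟩ : ∃ i : Fin 3, a i * a i ^ q ≠ 1 := by
      by_contra h
      push Not at h
      rw [h 0, h 1, h 2] at haa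
      exact two_ne_zero_of_odd hF hq (by linear_combination haa)
    refine ⟨mat g *ᵥ Pi.single i 1, by rw [h3_mat]; fin_cases i <;> simp [h3, zero_q hF], ?_, ?_⟩
    · rw [commute_refl_iff hF hq]
      by_cases h0 : i = 0
      · left
        subst h0
        congr 1
        apply Subtype.ext
        rw [← hg]; congr 1; ext j; fin_cases j <;> simp
      · right
        rw [← hg, h3_frame hF, Pi.single_eq_of_ne (Ne.symm h0)]
    · rw [← hga, h3_mat, pow_succ']
      have e : h3 q a (Pi.single i 1) = a i := by fin_cases i <;> simp [h3, zero_q hF]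
      rw [e]; exact hi
  obtain ⟨z, hzv, hzw⟩ := exists_perp_both hF hv w.2 hvw
  exact ⟨refl hF ⟨v, hv⟩, refl hF z, refl_ne_one hF hq _, refl_mul_self hF _, refl_ne_one hF hq z,
    refl_mul_self hF z, hvu, (commute_refl_iff hF hq _ z).2 (Or.inr hzv),
    ((commute_refl_iff hF hq w z).2 (Or.inr hzw)).symm⟩

end Cfsg.Agent.SU3Invol
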